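import Cfsg.Agent.Blocks.Orthogonality
import Cfsg.Agent.Blocks.Osima
import Cfsg.Agent.SmallSimple.TheoremCCor
import Cfsg.Agent.H968.PQ.RatOne_m3
import Cfsg.Agent.SmallSimple.InvolColumn
import Cfsg.Agent.H788.RatB.Rat_m3
import Cfsg.Agent.H676.Deg.Val
import Cfsg.Agent.Blocks.Knorr
import Cfsg.Agent.H816.MDeg
import Cfsg.Agent.FastGrp
import Cfsg.Agent.Prune
set_option linter.all false

section
prune_inst 0x7ffdffffffeeffffffff7fbfffdddffb91e7effff6dff9fbffefef9fffdf2bb7adcd6ba5edeadaffdef7e2b414f87b43ff7eefffee6fdc7ffffdfff41ffbffcffdf7b50d51d9a4ae1ffe6fff83f37ffe7f3fffffffffffffffffffffffffffffffffffffffff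

-- part: H495/LB/Sev
section
prune_inst 0x2000000000000000000000000000000000000000000000000000000000000000000000000000000000000000000000000000000000020000000000000000000000000000000000000000000000000000000000000000
set_option linter.all false
open scoped Cfsg.Agent.FastGrp

-- part: H495/LB/Rel
section
/-!
# Linear relations between the rows of generalized decomposition numbers (S4879, tool (R), p-side; helper495)

`B` a union of `p`-blocks, `x` an element whose `p`-part is not trivial, `χ(x y) = ∑ j, q χ j * f j y` for `χ ∈ B` and the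
`p`-regular `y` in `C(x)`, the functions `f j` linearly independent there. Then

* `rel` : `∑ χ ∈ B, χ h * q χ j = 0` for every `p`-regular `h`;
* `rel_theta` : for `g` commuting with the group `K` such that all `g z` are `p`-regular and
  `χ (g z) = ∑ θ, a χ θ * θ z` : `∑ χ ∈ B, a χ θ * q χ j = 0`.
-/

set_option autoImplicit false

namespace Cfsg.Agent.H495.LB

open Cfsg Cfsg.Agent.Blocks.Orthogonality Subgroup
open scoped ComplexConjugate

variable {G : Type*} [Group G] [Finite G] {p : ℕ} {M : Ideal AlgInt}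

/-- the rows of a set of characters at `x` -/
structure Rows (p : ℕ) (B : Finset (IrrCharacter G)) (x : G) {J : Type*} [Fintype J] (Y : Set G) (f : J → G → ℂ)
    (q : IrrCharacter G → J → ℤ) : Prop where
  /-- the elements `y` commute with `x` and are `p`-regular -/
  comm : ∀ y ∈ Y, Commute x y
  reg : ∀ y ∈ Y, ¬ p ∣ orderOf y
  val : ∀ χ ∈ B, ∀ y ∈ Y, (χ : G → ℂ) (x * y) = ∑ j, (q χ j : ℂ) * f j y
  indep : ∀ c : J → ℂ, (∀ y ∈ Y, ∑ j, c j * f j y = 0) → ∀ j, c j = 0

variable {J : Type*} [Fintype J] {B : Finset (IrrCharacter G)} {x : G} {Y : Set G} {f : J → G → ℂ}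
  {q : IrrCharacter G → J → ℤ}

/-- **The relation of a `p`-regular element.** -/
theorem rel (hM : IsPModular p M) (hR : ∀ g, MemLocalRing M (blockCoeff (B : Set (IrrCharacter G)) g))
    (hx : ∃ k : ℕ, orderOf x = p ^ k) (hx1 : x ≠ 1) (D : Rows p B x Y f q) {h : G} (hh : ¬ p ∣ orderOf h) (j : J) :
    ∑ χ ∈ B, (χ : G → ℂ) h * (q χ j : ℂ) = 0 := by
  have key : ∀ y ∈ Y, ∑ j, (∑ χ ∈ B, conj ((χ : G → ℂ) h) * (q χ j : ℂ)) * f j y = 0 := by
    intro y hy
    have h1 := block_orthogonality hM (B : Set (IrrCharacter G)) hR (g := x * y) (h := h) (x := x) (y := 1)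
      ⟨y, rfl, D.comm y hy, hx, D.reg y hy⟩ (isPPart_one_of_not_dvd hh) (fun e => hx1 (isConj_one_left.mp e))
    rw [finsum_mem_coe_finset] at h1
    calc ∑ j, (∑ χ ∈ B, conj ((χ : G → ℂ) h) * (q χ j : ℂ)) * f j y
        = ∑ χ ∈ B, (χ : G → ℂ) (x * y) * conj ((χ : G → ℂ) h) := by
          simp only [Finset.sum_mul]
          rw [Finset.sum_comm]
          refine Finset.sum_congr rfl fun χ hχ => ?_
          rw [D.val χ hχ y hy, Finset.sum_mul]
          refine Finset.sum_congr rfl fun j _ => ?_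
          ring
      _ = 0 := h1
  have h2 := D.indep _ key j
  have h3 := congrArg conj h2
  rw [map_sum, map_zero] at h3
  rw [← h3]
  refine Finset.sum_congr rfl fun χ _ => ?_
  rw [map_mul, Complex.conj_conj, map_intCast]

end Cfsg.Agent.H495.LB
end

-- part: H495/LB/RelP
section
/-!
# The relations for the principal block, rows in the form of the hub (S4879, tool (R), p-side; helper495)

`q : IrrCharacter G → Fin c → ℤ`, `f : Fin c → C(x) → ℂ`, `χ (x s) = ∑ j, q χ j * f j s` for `χ` in the principal block and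
`p`-regular `s ∈ C(x)`, the `f j` independent on the `p`-regular elements.

* `relP` : `∑ᶠ χ ∈ B₀, χ h * q χ j = 0` for `p`-regular `h`;
* `aTh g K θ χ = |K|⁻¹ ∑ z, χ (g z) conj (θ z)`; `relP_theta` : `∑ᶠ χ ∈ B₀, aTh g K θ χ * q χ j = 0`.
-/

set_option autoImplicit false

namespace Cfsg.Agent.H495.LB

open Cfsg Cfsg.Agent.Blocks.Orthogonality Subgroup
open scoped ComplexConjugate

variable {G : Type*} [Group G] [Finite G] {p : ℕ} {M : Ideal AlgInt}

theorem principal_local (hM : IsPModular p M) (g : G) : MemLocalRing M (blockCoeff (principalBlock M G) g) :=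
  Cfsg.Agent.Blocks.Osima.memLocalRing_blockCoeff_of_separated hM _ (fun _ hχ _ hψ h =>
    hψ (Cfsg.Agent.Blocks.Osima.sameBlock_trans hM hχ h)) g

variable {c : ℕ} {x : G} {q : IrrCharacter G → Fin c → ℤ} {f : Fin c → centralizer ({x} : Set G) → ℂ}

/-- **The relation of a `p`-regular element.** -/
theorem relP (hM : IsPModular p M) (hx : ∃ k : ℕ, orderOf x = p ^ k) (hx1 : x ≠ 1)
    (hval : ∀ χ ∈ principalBlock M G, ∀ s : centralizer ({x} : Set G), ¬ p ∣ orderOf s →
      (χ : G → ℂ) (x * s) = ∑ j, (q χ j : ℂ) * f j s)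
    (hind : ∀ a : Fin c → ℂ, (∀ s : centralizer ({x} : Set G), ¬ p ∣ orderOf s → ∑ j, a j * f j s = 0) → ∀ j, a j = 0)
    {h : G} (hh : ¬ p ∣ orderOf h) (j : Fin c) : ∑ᶠ χ ∈ principalBlock M G, (χ : G → ℂ) h * (q χ j : ℂ) = 0 := by
  classical
  have hf : Finite (IrrCharacter G) := Cfsg.Agent.S0909.finite_irr
  have := Fintype.ofFinite (IrrCharacter G)
  obtain ⟨B, hB⟩ : ∃ B : Finset (IrrCharacter G), (B : Set (IrrCharacter G)) = principalBlock M G :=
    ⟨(principalBlock M G).toFinset, Set.coe_toFinset _⟩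
  rw [← hB, finsum_mem_coe_finset]
  have hB' : ∀ χ, χ ∈ B ↔ χ ∈ principalBlock M G := fun χ => by rw [← hB, Finset.mem_coe]
  let F : Fin c → G → ℂ := fun j y => if hy : y ∈ centralizer ({x} : Set G) then f j ⟨y, hy⟩ else 0
  refine rel (B := B) (x := x) (Y := {y | y ∈ centralizer ({x} : Set G) ∧ ¬ p ∣ orderOf y}) (f := F) hM
    (fun g => by rw [hB]; exact principal_local hM g) hx hx1 ?_ hh j
  refine ⟨fun y hy => ?_, fun y hy => hy.2, fun χ hχ y hy => ?_, fun a ha => hind a fun s hs => ?_⟩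
  · exact ((mem_centralizer_singleton_iff.1 hy.1).symm : x * y = y * x)
  · have h1 := hval χ ((hB' χ).1 hχ) ⟨y, hy.1⟩ (by rw [← Subgroup.orderOf_coe]; exact hy.2)
    rw [h1]
    refine Finset.sum_congr rfl fun j _ => ?_
    simp only [F, dif_pos hy.1]
  · have h1 := ha s ⟨s.2, by rw [Subgroup.orderOf_coe]; exact hs⟩
    rw [← h1]
    refine Finset.sum_congr rfl fun j _ => ?_
    simp only [F, dif_pos s.2]

/-- the coefficient of `θ` in `z ↦ χ (g z)` -/
noncomputable def aTh (g : G) (K : Subgroup G) (θ : K → ℂ) (χ : IrrCharacter G) : ℂ :=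
  (Nat.card K : ℂ)⁻¹ * ∑ᶠ z : K, (χ : G → ℂ) (g * z) * conj (θ z)

/-- **The relation of a character of `K`.** -/
theorem relP_theta (hM : IsPModular p M) (hx : ∃ k : ℕ, orderOf x = p ^ k) (hx1 : x ≠ 1)
    (hval : ∀ χ ∈ principalBlock M G, ∀ s : centralizer ({x} : Set G), ¬ p ∣ orderOf s →
      (χ : G → ℂ) (x * s) = ∑ j, (q χ j : ℂ) * f j s)
    (hind : ∀ a : Fin c → ℂ, (∀ s : centralizer ({x} : Set G), ¬ p ∣ orderOf s → ∑ j, a j * f j s = 0) → ∀ j, a j = 0)
    {g : G} {K : Subgroup G} (hK : ∀ z ∈ K, ¬ p ∣ orderOf (g * z)) (θ : K → ℂ) (j : Fin c) :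
    ∑ᶠ χ ∈ principalBlock M G, aTh g K θ χ * (q χ j : ℂ) = 0 := by
  classical
  have hf : Finite (IrrCharacter G) := Cfsg.Agent.S0909.finite_irr
  have := Fintype.ofFinite (IrrCharacter G)
  have := Fintype.ofFinite K
  have key : ∀ z : K, ∑ χ ∈ (principalBlock M G).toFinset, (χ : G → ℂ) (g * z) * (q χ j : ℂ) = 0 := by
    intro z
    have h1 := relP hM hx hx1 hval hind (hK z z.2) j
    rwa [finsum_mem_eq_finite_toFinset_sum _ (Set.toFinite _), Set.Finite.toFinset_eq_toFinset] at h1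
  rw [finsum_mem_eq_finite_toFinset_sum _ (Set.toFinite _), Set.Finite.toFinset_eq_toFinset]
  calc ∑ χ ∈ (principalBlock M G).toFinset, aTh g K θ χ * (q χ j : ℂ)
      = (Nat.card K : ℂ)⁻¹ * ∑ z : K, conj (θ z) *
          ∑ χ ∈ (principalBlock M G).toFinset, (χ : G → ℂ) (g * z) * (q χ j : ℂ) := by
        simp only [aTh, finsum_eq_sum_of_fintype, Finset.mul_sum, Finset.sum_mul]
        rw [Finset.sum_comm]
        refine Finset.sum_congr rfl fun z _ => Finset.sum_congr rfl fun χ _ => ?_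
        ring
    _ = 0 := by
        simp only [key, mul_zero, Finset.sum_const_zero]

end Cfsg.Agent.H495.LB
end

-- part: H495/LB/ToolR
section
/-!
# Tool (R) of S4879 (helper495)

`p`, `r` different primes, `R` a Sylow `r`-subgroup of order `r`, `K` the `r`-regular part of `C(R)` (`IsComp r R K`,
`C(R) = R × K`), `|K|` prime to `p`, `x ≠ 1` a `p`-element, `q` the rows at `x` (`χ (x s) = ∑ j, q χ j * f j s`).

* `toolR_one` : `θ ∈ Irr K` with inertial index `r - 1`: a function `a : Irr G → {0, 1, -1}`, non-zero exactly on the `r`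
  characters over `θ`, `part θ χ g = a χ` for `g ∈ R#`, and `∑ χ ∈ B₀(p), a χ * q χ j = 0`;
* `toolR` : any inertial index `e`, `e t = r - 1`, the rows of the exceptional characters being equal
  (no element `x s` has order divisible by `r`): non-zero on the `e` non-exceptional and one exceptional character.
* supports: `TheoremC.disjoint_Over`.
-/

set_option autoImplicit false

namespace Cfsg.Agent.H495.LB

open Cfsg Subgroup
open Cfsg.Agent.SmallSimple.ThetaSetup Cfsg.Agent.SmallSimple.ThetaOrtho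
open scoped ComplexConjugate

universe u

variable {G : Type u} [Group G] [Finite G] {p : ℕ} {M : Ideal AlgInt}

/-- the rows at `x` -/
structure RowsP (p : ℕ) (M : Ideal AlgInt) (x : G) {c : ℕ} (q : IrrCharacter G → Fin c → ℤ)
    (f : Fin c → centralizer ({x} : Set G) → ℂ) : Prop where
  pelt : ∃ k : ℕ, orderOf x = p ^ k
  ne : x ≠ 1
  val : ∀ χ ∈ principalBlock M G, ∀ s : centralizer ({x} : Set G), ¬ p ∣ orderOf s →
    (χ : G → ℂ) (x * s) = ∑ j, (q χ j : ℂ) * f j s
  indep : ∀ a : Fin c → ℂ, (∀ s : centralizer ({x} : Set G), ¬ p ∣ orderOf s → ∑ j, a j * f j s = 0) → ∀ j, a j = 0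

variable {c : ℕ} {x : G} {q : IrrCharacter G → Fin c → ℤ} {f : Fin c → centralizer ({x} : Set G) → ℂ}

theorem part_eq_aTh (g : G) (K : Subgroup G) (θ : K → ℂ) (χ : IrrCharacter G) :
    aTh g K θ χ = part θ (χ : G → ℂ) g := by
  have := Fintype.ofFinite K
  rw [part_eq, aTh, finsum_eq_sum_of_fintype]

section

variable {r : ℕ} [Fact r.Prime] {R : Sylow r G} {K : Subgroup G}

theorem not_dvd_mul (hp : p.Prime) (hpr : p ≠ r) (hK : IsComp r (R : Subgroup G) K) (hR : Nat.card R = r)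
    (hKp : ¬ p ∣ Nat.card K) {g z : G} (hg : g ∈ R) (hz : z ∈ K) : ¬ p ∣ orderOf (g * z) := by
  have hc : Commute g z := hK.comm hg hz
  intro h
  have h1 := h.trans hc.orderOf_mul_dvd_mul_orderOf
  rcases hp.dvd_mul.1 h1 with h2 | h2
  · have h3 : orderOf (⟨g, hg⟩ : R) ∣ Nat.card R := _root_.orderOf_dvd_natCard _
    have h4 : orderOf g ∣ Nat.card R := by rwa [← Subgroup.orderOf_coe] at h3
    have h4 : orderOf g ∣ r := h4.trans (dvd_of_eq hR)
    exact hpr ((Nat.prime_dvd_prime_iff_eq hp Fact.out).1 (h2.trans h4))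
  · have h3 : orderOf (⟨z, hz⟩ : K) ∣ Nat.card K := _root_.orderOf_dvd_natCard _
    rw [← Subgroup.orderOf_coe] at h3
    exact hKp (h2.trans h3)

/-- **the relation for `part`** -/
theorem rel_part (hM : IsPModular p M) (hpr : p ≠ r) (D : RowsP p M x q f)
    (hK : IsComp r (R : Subgroup G) K) (hR : Nat.card R = r) (hKp : ¬ p ∣ Nat.card K) (θ : K → ℂ) {g : G} (hg : g ∈ R)
    (j : Fin c) : ∑ᶠ χ ∈ principalBlock M G, part θ (χ : G → ℂ) g * (q χ j : ℂ) = 0 := by
  have h1 := relP_theta hM D.pelt D.ne D.val D.indep (g := g) (K := K)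
    (fun z hz => not_dvd_mul hM.1 hpr hK hR hKp hg hz) θ j
  rw [← h1]
  refine finsum_congr fun χ => finsum_congr fun _ => ?_
  rw [part_eq_aTh]

theorem finsum_int {S : Set (IrrCharacter G)} (a b : IrrCharacter G → ℤ)
    (h : ∑ᶠ χ ∈ S, (a χ : ℂ) * (b χ : ℂ) = 0) : ∑ᶠ χ ∈ S, a χ * b χ = 0 := by
  classical
  have : Finite (IrrCharacter G) := Cfsg.Agent.S0909.finite_irr
  have := Fintype.ofFinite (IrrCharacter G)
  rw [finsum_mem_eq_finite_toFinset_sum _ (Set.toFinite _)] at h ⊢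
  exact_mod_cast h

/-- **Tool (R), inertial index `r - 1`.** -/
theorem toolR_one (hM : IsPModular p M) (hpr : p ≠ r) (D : RowsP p M x q f)
    (hK : IsComp r (R : Subgroup G) K) (hR : Nat.card R = r) (hKp : ¬ p ∣ Nat.card K) {θ : K → ℂ}
    (hθ : IsIrrCharacter K θ) (he : Nat.card (stabAct hK θ) = r - 1) :
    ∃ a : IrrCharacter G → ℤ, (∀ χ, a χ = 0 ∨ a χ = 1 ∨ a χ = -1) ∧ (∀ χ, χ ∈ Over R θ ↔ a χ ≠ 0) ∧
      Set.ncard {χ | a χ ≠ 0} = r ∧ (∀ χ : IrrCharacter G, ∀ g ∈ R, g ≠ 1 → part θ (χ : G → ℂ) g = a χ) ∧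
      ∀ j, ∑ᶠ χ ∈ principalBlock M G, a χ * q χ j = 0 := by
  classical
  obtain ⟨B, δ, h1, h2, h3, h4⟩ := Cfsg.Agent.SmallSimple.TheoremCCor.theoremC_one hK hR hθ he
  have hδ : ∀ χ ∈ B, δ χ ≠ 0 := fun χ hχ => by rcases (h3 χ hχ).1 with h | h <;> omega
  have hpart : ∀ χ : IrrCharacter G, ∀ g ∈ R, g ≠ 1 →
      part θ (χ : G → ℂ) g = ((if χ ∈ B then δ χ else 0 : ℤ) : ℂ) := by
    intro χ g hg hg1
    by_cases hχ : χ ∈ B
    · rw [if_pos hχ]
      exact (h3 χ hχ).2 ⟨g, hg⟩ fun h => hg1 (congrArg Subtype.val h)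
    · rw [if_neg hχ]
      push_cast
      exact part_eq_zero (fun h => hχ ((h2 χ).1 h)) (x := ⟨g, hg⟩) fun h => hg1 (congrArg Subtype.val h)
  refine ⟨fun χ => if χ ∈ B then δ χ else 0, fun χ => ?_, fun χ => ?_, ?_, hpart, fun j => ?_⟩
  · by_cases hχ : χ ∈ B
    · simp only [if_pos hχ]
      exact Or.inr (h3 χ hχ).1
    · simp only [if_neg hχ]
      exact Or.inl trivial
  · rw [h2]
    by_cases hχ : χ ∈ B
    · simpa [hχ] using hδ χ hχ
    · simp [hχ]
  · have h5 : {χ : IrrCharacter G | (if χ ∈ B then δ χ else 0) ≠ 0} = (B : Set (IrrCharacter G)) := by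
      ext χ
      by_cases hχ : χ ∈ B
      · simp [hχ, hδ χ hχ]
      · simp [hχ]
    rw [h5, Set.ncard_coe_finset, h1]
  · obtain ⟨g, hg, hg1⟩ := exists_ne_one (P := (R : Subgroup G)) hR
    refine finsum_int _ _ ?_
    rw [← rel_part hM hpr D hK hR hKp θ hg j]
    refine finsum_congr fun χ => finsum_congr fun _ => ?_
    rw [hpart χ g hg hg1]

end

end Cfsg.Agent.H495.LB
end

-- part: H495/LB/Sev
section
/-!
# The columns of tool (R) for `r = 17`, `C(R) = 17 × L₃(2)` (helper495, for S4879, row M)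

* `Sev a` : the properties of the three columns (characters of degree 1, 8, 6 of `L₃(2)`): values, disjoint supports, and
  the signs of the rational valued characters from the degree modulo 17;
* `exists_cols` : the columns, orthogonal to the rows of `B₀(p)`.
-/

set_option autoImplicit false
set_option linter.unusedSectionVars false

namespace Cfsg.Agent.H495.LB

open Cfsg Subgroup
open Cfsg.Agent.SmallSimple.ThetaSetup Cfsg.Agent.SmallSimple.ThetaOrtho
open Cfsg.Agent.SmallSimple.TheoremC Cfsg.Agent.SmallSimple.TheoremCCor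
open Cfsg.Agent.Characters.Core Cfsg.Agent.H676.Deg Cfsg.Agent.H727.DegCount
open Cfsg.Agent.H493.RatB (RatV)
open Cfsg.Agent.H442.ZerosSmall (Deg7)
open scoped ComplexConjugate

universe u

variable {G : Type u} [Group G] [Finite G]

section gen

variable {r : ℕ} [Fact r.Prime] {R : Sylow r G} {K : Subgroup G}

theorem exists_of_cnt {H : Type u} [Group H] {d : ℕ} (h : cnt H d = 1) :
    ∃ θ : IrrCharacter H, (θ : H → ℂ) 1 = (d : ℂ) ∧ ∀ θ' : IrrCharacter H, (θ' : H → ℂ) 1 = (d : ℂ) → θ' = θ := by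
  unfold cnt at h
  obtain ⟨⟨a, ha⟩, hall⟩ := Nat.card_eq_one_iff_exists.1 h
  exact ⟨a, ha, fun θ' h' => congrArg Subtype.val (hall ⟨θ', h'⟩)⟩

theorem orb_card_one (hK : IsComp r (R : Subgroup G) K) {θ : IrrCharacter K} {d : ℕ} (hd : (θ : K → ℂ) 1 = (d : ℂ))
    (h : cnt K d = 1) : orb R K (θ : K → ℂ) = {θ} := by
  have h1 := card_orb_le_cnt (P := R) hK θ hd
  rw [h] at h1
  have h2 := card_orb_pos (P := R) θ
  obtain ⟨a, ha⟩ := Finset.card_eq_one.1 (le_antisymm h1 h2)
  have h3 := self_mem_orb (P := R) θ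
  rw [ha, Finset.mem_singleton] at h3
  rw [ha, h3]

theorem stab_card (hK : IsComp r (R : Subgroup G) K) (hR : Nat.card R = r) {θ : IrrCharacter K} {d : ℕ}
    (hd : (θ : K → ℂ) 1 = (d : ℂ)) (h : cnt K d = 1) : Nat.card (stabAct hK (θ : K → ℂ)) =
      (centralizer ((R : Subgroup G) : Set G)).relIndex (normalizer ((R : Subgroup G) : Set G)) := by
  have h1 := card_stabAct_mul_card_orb hK hR θ.2
  rwa [orb_card_one hK hd h, Finset.card_singleton, mul_one] at h1

/-- `χ(1) = a θ(1) mod r` -/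
theorem degree_mod (hK : IsComp r (R : Subgroup G) K) (hR : Nat.card R = r) {θ : IrrCharacter K} {d : ℕ}
    (hd : (θ : K → ℂ) 1 = (d : ℂ)) (h : cnt K d = 1) {χ : IrrCharacter G} {a : ℤ}
    (hχ : χ ∈ Over R (θ : K → ℂ)) (ha : ∀ g ∈ R, g ≠ 1 → part (θ : K → ℂ) (χ : G → ℂ) g = a) :
    (r : ℤ) ∣ charDegree (χ : G → ℂ) - a * d := by
  obtain ⟨k, hk⟩ := degree_of_const hK hR θ.2 hχ (c := a) fun x hx => ha x x.2 fun h => hx (Subtype.ext h)
  rw [orb_card_one hK hd h, Finset.sum_singleton, hd, Cfsg.Agent.Blocks.Basic.irr_one_eq_charDegree χ.2] at hk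
  refine ⟨k, ?_⟩
  have h1 : (charDegree (χ : G → ℂ) : ℤ) = a * d + r * k := by exact_mod_cast hk
  rw [h1]; ring

/-- the part at a character which is `N`-stable, from the values -/
theorem part_of_val {θ θ' : IrrCharacter K} {χ : IrrCharacter G} {δ : ℤ}
    (hθ : orb R K (θ' : K → ℂ) = {θ})
    (h : ∀ x : R, x ≠ 1 → ∀ y : K, (χ : G → ℂ) (x * y) = δ * ∑ θ'' ∈ orb R K (θ' : K → ℂ), (θ'' : K → ℂ) y)
    {x : R} (hx : x ≠ 1) : part (θ : K → ℂ) (χ : G → ℂ) x = δ := by
  have := Fintype.ofFinite K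
  have h1 : part (θ : K → ℂ) (χ : G → ℂ) x = (δ : ℂ) * classInner (θ : K → ℂ) (θ : K → ℂ) := by
    rw [part_eq, classInner_def, Finset.mul_sum, Finset.mul_sum, Finset.mul_sum]
    refine Finset.sum_congr rfl fun y _ => ?_
    rw [h x hx y, hθ, Finset.sum_singleton]
    ring
  rw [h1, classInner_irr_self θ.2, mul_one]

/-- an involution commuting with an element of order `r` is conjugate to an element of `K` -/
theorem exists_conj_mem (hK : IsComp r (R : Subgroup G) K) (hR : Nat.card R = r) (hr2 : r ≠ 2) {t : G}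
    (ht : orderOf t = 2) (h : r ∣ Nat.card (centralizer ({t} : Set G))) : ∃ u ∈ K, orderOf u = 2 ∧ IsConj t u := by
  have hr : r.Prime := Fact.out
  obtain ⟨w, hw⟩ := exists_prime_orderOf_dvd_card' (G := centralizer ({t} : Set G)) r h
  have hw' : orderOf (w : G) = r := by rw [Subgroup.orderOf_coe, hw]
  have hpg : IsPGroup r (zpowers (w : G)) := IsPGroup.of_card (n := 1) (by rw [Nat.card_zpowers, hw', pow_one])
  obtain ⟨Q, hQ⟩ := hpg.exists_le_sylow
  have hQc : Nat.card Q = r := (Nat.card_congr (Q.equiv R).toEquiv).trans hR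
  have hQw : (Q : Subgroup G) = zpowers (w : G) := by
    refine (Subgroup.eq_of_le_of_card_ge hQ ?_).symm
    rw [Nat.card_zpowers, hw']
    exact hQc.le
  obtain ⟨g, hg⟩ := MulAction.exists_smul_eq G Q R
  refine ⟨g * t * g⁻¹, ?_, ?_, isConj_iff.2 ⟨g, rfl⟩⟩
  · rw [hK]
    refine ⟨?_, ?_⟩
    · rw [mem_centralizer_iff]
      intro x hx
      have hx' : x ∈ ((g • Q : Sylow r G) : Subgroup G) := by rw [hg]; exact hx
      rw [Sylow.coe_subgroup_smul, hQw] at hx'
      obtain ⟨y, hy, rfl⟩ := hx'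
      have hty : t * y = y * t := by
        have h1 : y ∈ centralizer ({t} : Set G) := (zpowers_le.2 w.2) hy
        exact (mem_centralizer_singleton_iff.1 h1).symm
      show g * y * g⁻¹ * (g * t * g⁻¹) = g * t * g⁻¹ * (g * y * g⁻¹)
      calc g * y * g⁻¹ * (g * t * g⁻¹) = g * (y * t) * g⁻¹ := by group
        _ = g * (t * y) * g⁻¹ := by rw [hty]
        _ = _ := by group
    · have h1 : orderOf (g * t * g⁻¹) = orderOf t := orderOf_injective (MulAut.conj g).toMonoidHom (MulAut.conj g).injective t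
      rw [h1, ht, Nat.prime_dvd_prime_iff_eq hr Nat.prime_two]
      exact hr2
  · rw [← ht]
    exact orderOf_injective (MulAut.conj g).toMonoidHom (MulAut.conj g).injective t

end gen

/-- The properties of the three columns at `r = 17`. -/
structure Sev (G : Type u) [Group G] (a : Fin 3 → IrrCharacter G → ℤ) : Prop where
  val : ∀ i χ, a i χ = 0 ∨ a i χ = 1 ∨ a i χ = -1
  disj : ∀ χ i j, i ≠ j → a i χ = 0 ∨ a j χ = 0
  zero : ∀ χ : IrrCharacter G, 17 ∣ charDegree (χ : G → ℂ) → ∀ i, a i χ = 0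
  one : ∀ χ : IrrCharacter G, RatV (χ : G → ℂ) → charDegree (χ : G → ℂ) % 17 = 1 → a 0 χ = 1
  neg : ∀ χ : IrrCharacter G, RatV (χ : G → ℂ) → charDegree (χ : G → ℂ) % 17 = 16 → a 0 χ = -1
  eight : ∀ χ : IrrCharacter G, RatV (χ : G → ℂ) → charDegree (χ : G → ℂ) % 17 = 8 → a 1 χ = 1
  six : ∀ χ : IrrCharacter G, RatV (χ : G → ℂ) → charDegree (χ : G → ℂ) % 17 = 6 →
    (∃ (t : G) (v : ℤ), orderOf t = 2 ∧ 17 ∣ Nat.card (centralizer ({t} : Set G)) ∧ (χ : G → ℂ) t = v ∧ v % 17 = 2) →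
    a 2 χ = 1

/-- the degrees -/
def sd : Fin 3 → ℕ := ![1, 8, 6]

theorem sd_inj : ∀ i j, sd i = sd j → i = j := by decide

theorem sd_cases : ∀ i, sd i = 1 ∨ sd i = 8 ∨ sd i = 6 := by decide

section sev

variable [Fact (Nat.Prime 17)] {R : Sylow 17 G} {K : Subgroup G}

theorem shape (hK : IsComp 17 (R : Subgroup G) K) (hR : Nat.card R = 17) (D7 : Deg7 K) {χ : IrrCharacter G}
    (hr : RatV (χ : G → ℂ)) (h0 : ¬ 17 ∣ charDegree (χ : G → ℂ)) :
    ∃ (θ : IrrCharacter K) (δ : ℤ) (n : ℕ), (δ = 1 ∨ δ = -1) ∧ (θ : K → ℂ) 1 = n ∧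
      (∀ x : R, x ≠ 1 → ∀ y : K, (χ : G → ℂ) (x * y) = δ * ∑ θ' ∈ orb R K (θ : K → ℂ), (θ' : K → ℂ) y) ∧
      (17 : ℤ) ∣ charDegree (χ : G → ℂ) - δ * ((orb R K (θ : K → ℂ)).card * n) ∧
      (((orb R K (θ : K → ℂ)).card = 1 ∧ (n = 1 ∨ n = 3 ∨ n = 6 ∨ n = 7 ∨ n = 8)) ∨
        (orb R K (θ : K → ℂ)).card = 2 ∧ n = 3) := by
  rcases res_orb hK hR χ (H968.PQ.RatOne.const_of_rat hK hR (isIrr_isCharacter χ.2) hr)
    (Cfsg.Agent.Blocks.Basic.irr_one_eq_charDegree χ.2) with h | ⟨θ, δ, n, h1, hn0, hn, h2, h3⟩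
  · exact absurd (by exact_mod_cast h) h0
  · refine ⟨θ, δ, n, h1, hn, h2, by exact_mod_cast h3, ?_⟩
    have h4 := card_orb_pos (P := R) θ
    have h6 := card_orb_le_cnt (P := R) hK θ hn
    have h7 := D7.mem n (lt_of_lt_of_le h4 h6)
    simp only [Finset.mem_insert, Finset.mem_singleton] at h7
    rcases h7 with rfl | rfl | rfl | rfl | rfl
    · rw [D7.one] at h6; left; exact ⟨by omega, by simp⟩
    · rw [D7.three] at h6
      have : (orb R K (θ : K → ℂ)).card = 1 ∨ (orb R K (θ : K → ℂ)).card = 2 := by omega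
      rcases this with h | h
      · left; exact ⟨h, by simp⟩
      · right; exact ⟨h, rfl⟩
    · rw [D7.six] at h6; left; exact ⟨by omega, by simp⟩
    · rw [D7.seven] at h6; left; exact ⟨by omega, by simp⟩
    · rw [D7.eight] at h6; left; exact ⟨by omega, by simp⟩

theorem cnt_sd (D7 : Deg7 K) (i : Fin 3) : cnt K (sd i) = 1 := by
  fin_cases i
  · exact D7.one
  · exact D7.eight
  · exact D7.six

/-- an irreducible character of degree 3 of a perfect simple group at an involution -/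
theorem three_val {H : Type u} [Group H] [Finite H] [IsSimpleGroup H] (hH : commutator H = ⊤) {θ : IrrCharacter H}
    (h3 : (θ : H → ℂ) 1 = ((3 : ℕ) : ℂ)) {t : H} (ht : orderOf t = 2) : (θ : H → ℂ) t = -1 := by
  have hd : charDegree (θ : H → ℂ) = 3 := by
    have := Cfsg.Agent.Blocks.Basic.irr_one_eq_charDegree θ.2
    rw [h3] at this
    exact_mod_cast this.symm
  have hne : (θ : H → ℂ) ≠ 1 := by
    intro h
    rw [h, Pi.one_apply] at h3
    norm_num at h3
  obtain ⟨z, hz, h1, h2⟩ := Cfsg.Agent.SmallSimple.InvolColumn.exists_int hH θ.2 hne (t := t)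
    (by rw [← ht]; exact pow_orderOf_eq_one t) (fun h => by rw [h, orderOf_one] at ht; omega)
  rw [hd] at h1 h2
  have h3 := abs_lt.1 h1
  have h4 : z = -1 := by push_cast at *; omega
  rw [hz, h4]; norm_num

/-- **The columns of `r = 17`.** -/
theorem exists_cols (hK : IsComp 17 (R : Subgroup G) K) (hR : Nat.card R = 17) (hKc : Nat.card K = 168)
    (hs : IsSimpleGroup K) (D7 : Deg7 K)
    (he : (centralizer ((R : Subgroup G) : Set G)).relIndex (normalizer ((R : Subgroup G) : Set G)) = 16)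
    {p : ℕ} {M : Ideal AlgInt} (hM : IsPModular p M) (hp : p ≠ 17) (hp168 : ¬ p ∣ 168) {c : ℕ} {x : G}
    {q : IrrCharacter G → Fin c → ℤ} {f : Fin c → centralizer ({x} : Set G) → ℂ} (D : RowsP p M x q f) :
    ∃ a : Fin 3 → IrrCharacter G → ℤ, Sev G a ∧ ∀ i j, ∑ᶠ χ ∈ principalBlock M G, a i χ * q χ j = 0 := by
  classical
  choose θ hθ1 hθ using fun i : Fin 3 => exists_of_cnt (cnt_sd D7 i)
  have hst : ∀ i, Nat.card (stabAct hK (θ i : K → ℂ)) = 17 - 1 := fun i => by
    rw [stab_card hK hR (hθ1 i) (cnt_sd D7 i), he]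
  choose a ha1 ha2 ha3 ha4 ha5 using fun i : Fin 3 =>
    toolR_one hM hp D hK hR (by rw [hKc]; exact hp168) (θ i).2 (hst i)
  have hmod : ∀ i χ, a i χ ≠ 0 → (17 : ℤ) ∣ charDegree (χ : G → ℂ) - a i χ * sd i := fun i χ h =>
    by exact_mod_cast degree_mod hK hR (hθ1 i) (cnt_sd D7 i) ((ha2 i χ).2 h) (ha4 i χ)
  have hval : ∀ (i : Fin 3) (χ : IrrCharacter G) (θ' : IrrCharacter K) (δ : ℤ), (θ' : K → ℂ) 1 = (sd i : ℂ) →
      (∀ x : R, x ≠ 1 → ∀ y : K, (χ : G → ℂ) (x * y) = δ * ∑ θ'' ∈ orb R K (θ' : K → ℂ), (θ'' : K → ℂ) y) →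
      a i χ = δ := by
    intro i χ θ' δ h1 h2
    have e : θ' = θ i := hθ i θ' h1
    subst e
    obtain ⟨g, hg, hg1⟩ := exists_ne_one (P := (R : Subgroup G)) hR
    have h3 := part_of_val (x := (⟨g, hg⟩ : R)) (orb_card_one hK h1 (cnt_sd D7 i)) h2
      fun h => hg1 (congrArg Subtype.val h)
    have h4 := ha4 i χ g hg hg1
    have h5 : (a i χ : ℂ) = (δ : ℂ) := h4.symm.trans h3
    exact_mod_cast h5
  refine ⟨a, ⟨ha1, fun χ i j hij => ?_, fun χ h i => ?_, fun χ hr h => ?_, fun χ hr h => ?_, fun χ hr h => ?_,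
    fun χ hr h ht => ?_⟩, ha5⟩
  · by_contra hno
    push Not at hno
    have h1 := (ha2 i χ).2 hno.1
    have h2 := (ha2 j χ).2 hno.2
    refine Set.disjoint_left.1 (disjoint_Over hK hR (θ i).2 (θ j).2 fun n hn h => ?_) h1 h2
    have h3 : θ j ∈ orb R K (θ i : K → ℂ) := mem_orb.2 ⟨n, hn, h⟩
    have h4 := orb_one hK h3
    rw [hθ1, hθ1] at h4
    have h5 : sd j = sd i := by exact_mod_cast h4
    exact hij (sd_inj i j h5.symm)
  · by_contra h0
    have h1 := hmod i χ h0
    have h2 : (17 : ℤ) ∣ charDegree (χ : G → ℂ) := by exact_mod_cast h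
    have h3 : (17 : ℤ) ∣ a i χ * sd i := (dvd_sub_right h2).1 h1
    rcases ha1 i χ with h4 | h4 | h4
    · exact h0 h4
    · rcases sd_cases i with h5 | h5 | h5 <;> rw [h4, h5] at h3 <;> push_cast at h3 <;> omega
    · rcases sd_cases i with h5 | h5 | h5 <;> rw [h4, h5] at h3 <;> push_cast at h3 <;> omega
  · obtain ⟨θ', δ, n, h1, h2, h3, h4, h5⟩ := shape hK hR D7 hr (by omega)
    have h6 : n = 1 ∧ δ = 1 := by
      rcases h5 with ⟨h5, h6⟩ | ⟨h5, h6⟩
      · rw [h5] at h4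
        rcases h6 with rfl | rfl | rfl | rfl | rfl <;> rcases h1 with rfl | rfl <;> push_cast at h4 <;> omega
      · rw [h5, h6] at h4
        rcases h1 with rfl | rfl <;> push_cast at h4 <;> omega
    rw [hval 0 χ θ' δ (by rw [h2, h6.1]; rfl) h3, h6.2]
  · obtain ⟨θ', δ, n, h1, h2, h3, h4, h5⟩ := shape hK hR D7 hr (by omega)
    have h6 : n = 1 ∧ δ = -1 := by
      rcases h5 with ⟨h5, h6⟩ | ⟨h5, h6⟩
      · rw [h5] at h4
        rcases h6 with rfl | rfl | rfl | rfl | rfl <;> rcases h1 with rfl | rfl <;> push_cast at h4 <;> omega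
      · rw [h5, h6] at h4
        rcases h1 with rfl | rfl <;> push_cast at h4 <;> omega
    rw [hval 0 χ θ' δ (by rw [h2, h6.1]; rfl) h3, h6.2]
  · obtain ⟨θ', δ, n, h1, h2, h3, h4, h5⟩ := shape hK hR D7 hr (by omega)
    have h6 : n = 8 ∧ δ = 1 := by
      rcases h5 with ⟨h5, h6⟩ | ⟨h5, h6⟩
      · rw [h5] at h4
        rcases h6 with rfl | rfl | rfl | rfl | rfl <;> rcases h1 with rfl | rfl <;> push_cast at h4 <;> omega
      · rw [h5, h6] at h4
        rcases h1 with rfl | rfl <;> push_cast at h4 <;> omega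
    rw [hval 1 χ θ' δ (by rw [h2, h6.1]; rfl) h3, h6.2]
  · obtain ⟨t, v, ht2, htc, htv, hv⟩ := ht
    obtain ⟨u, huK, hu2, htu⟩ := exists_conj_mem hK hR (by norm_num) ht2 htc
    have huv : (χ : G → ℂ) u = v := by
      obtain ⟨g, hg⟩ := isConj_iff.1 htu
      rw [← htv, ← hg]
      exact isIrr_isClassFunction χ.2 t g
    obtain ⟨θ', δ, n, h1, h2, h3, h4, h5⟩ := shape hK hR D7 hr (by omega)
    have h6 : n = 6 ∧ δ = 1 := by
      rcases h5 with ⟨h5, h6⟩ | ⟨h5, h6⟩
      · rw [h5] at h4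
        rcases h6 with rfl | rfl | rfl | rfl | rfl <;> rcases h1 with rfl | rfl <;> push_cast at h4 <;> omega
      · exfalso
        have hδ : δ = 1 := by
          rw [h5, h6] at h4
          rcases h1 with rfl | rfl <;> push_cast at h4 <;> omega
        subst hδ
        subst h6
        obtain ⟨g, hg, hg1⟩ := exists_ne_one (P := (R : Subgroup G)) hR
        have h7 := h3 ⟨g, hg⟩ (fun h => hg1 (congrArg Subtype.val h)) ⟨u, huK⟩
        have h8 : ∀ θ'' ∈ orb R K (θ' : K → ℂ), (θ'' : K → ℂ) ⟨u, huK⟩ = -1 := fun θ'' hθ'' => by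
          refine three_val (commutator_eq_top_of_cnt D7.one) ?_ ?_
          · rw [orb_one hK hθ'', h2]
          · rw [← Subgroup.orderOf_coe]; exact hu2
        rw [Finset.sum_congr rfl h8, Finset.sum_const, h5] at h7
        have h9 : (χ : G → ℂ) (g * u) = ((-2 : ℤ) : ℂ) := by
          rw [h7]; norm_num
        obtain ⟨M', hM'⟩ := Cfsg.Agent.Blocks.ExistsModular.exists_isPModular (Fact.out : Nat.Prime 17)
        have hc : Commute g u := hK.comm hg huK
        have hgo : orderOf g = 17 := Cfsg.Agent.Blocks.CyclicOrtho.orderOf_eq R hR hg hg1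
        have h10 := Cfsg.Agent.CharactersDeep.ModCongr.memLocalIdeal_character_sub hM' χ.2 (g * u) g
          (Cfsg.Agent.Blocks.PPart.isPPart_mul hc ⟨1, by rw [hgo, pow_one]⟩ (by rw [hu2]; norm_num))
        rw [inv_mul_cancel_left, h9, huv] at h10
        have h11 : (17 : ℤ) ∣ -2 - v := by
          exact_mod_cast Cfsg.Agent.H642.PQ.int_dvd_of_mem hM' (c := -2 - v) (by push_cast; exact_mod_cast h10)
        omega
    rw [hval 2 χ θ' δ (by rw [h2, h6.1]; rfl) h3, h6.2]

end sev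

end Cfsg.Agent.H495.LB
end

private theorem dce_8eb6b6a94980 : _root_.True := by
  try have : _root_.True := by simp only [_root_.Cfsg.Agent.H495.LB.aTh.eq_1]
  exact _root_.True.intro
end

-- part: H495/LB/Full
section
prune_inst 0x100000000000000202004460800000920060000101000002040485222905a1214000001000d422102049000800000000001800002000080000000000002a008201000000000000008000100000000000000000000000000000000000000000000
set_option linter.all false
open scoped Cfsg.Agent.FastGrp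

/-!
# Tool (R) when all characters of `K` are stable (helper495, for S4879)

`|N(R) : C(R)| = r - 1`, `C(R) = R × K`, the elements of `N(R)` induce inner automorphisms of `K`:
`exists_full`: the columns `a θ` for all `θ ∈ Irr K`, orthogonal to the rows of `B₀(p)`, and how to find `θ` from values.
-/

set_option autoImplicit false
set_option linter.unusedSectionVars false

namespace Cfsg.Agent.H495.LB

open Cfsg Subgroup
open Cfsg.Agent.SmallSimple.ThetaSetup Cfsg.Agent.SmallSimple.ThetaOrtho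
open Cfsg.Agent.SmallSimple.TheoremC Cfsg.Agent.SmallSimple.TheoremCCor
open Cfsg.Agent.Characters.Core Cfsg.Agent.H676.Deg
open scoped ComplexConjugate

universe u

variable {G : Type u} [Group G] [Finite G] {r : ℕ} [Fact r.Prime] {R : Sylow r G} {K : Subgroup G}

/-- The properties of the columns. -/
structure Full (r : ℕ) (R : Subgroup G) (K : Subgroup G) (a : IrrCharacter K → IrrCharacter G → ℤ) : Prop where
  val : ∀ θ χ, a θ χ = 0 ∨ a θ χ = 1 ∨ a θ χ = -1
  disj : ∀ χ θ θ', θ ≠ θ' → a θ χ = 0 ∨ a θ' χ = 0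
  zero : ∀ χ : IrrCharacter G, r ∣ charDegree (χ : G → ℂ) → ∀ θ, a θ χ = 0
  ex : ∀ χ : IrrCharacter G, ¬ r ∣ charDegree (χ : G → ℂ) → ∃ θ : IrrCharacter K, (a θ χ = 1 ∨ a θ χ = -1) ∧
    (∀ x ∈ R, x ≠ 1 → ∀ y : K, (χ : G → ℂ) (x * y) = a θ χ * (θ : K → ℂ) y) ∧
    (r : ℤ) ∣ charDegree (χ : G → ℂ) - a θ χ * charDegree (θ : K → ℂ) ∧
    ∀ (y : K) (v w : ℤ), (χ : G → ℂ) y = v → (θ : K → ℂ) y = w → (r : ℤ) ∣ v - a θ χ * w

/-- **All columns.** -/
theorem exists_full {p : ℕ} {M : Ideal AlgInt} (hM : IsPModular p M) (hpr : p ≠ r)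
    (hK : IsComp r (R : Subgroup G) K) (hR : Nat.card R = r) (hKp : ¬ p ∣ Nat.card K)
    (he : (centralizer ((R : Subgroup G) : Set G)).relIndex (normalizer ((R : Subgroup G) : Set G)) = r - 1)
    (hI : Inn R K) {c : ℕ} {x : G}
    {q : IrrCharacter G → Fin c → ℤ} {f : Fin c → centralizer ({x} : Set G) → ℂ} (D : RowsP p M x q f) :
    ∃ a : IrrCharacter K → IrrCharacter G → ℤ, Full r (R : Subgroup G) K a ∧
      ∀ θ j, ∑ᶠ χ ∈ principalBlock M G, a θ χ * q χ j = 0 := by
  classical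
  have hr : r.Prime := Fact.out
  have hst : ∀ θ : IrrCharacter K, Nat.card (stabAct hK (θ : K → ℂ)) = r - 1 := fun θ => by
    rw [card_stabAct_of_stable hK hR θ.2 (tw_eq_of_inn hK hI θ.2), he]
  choose a ha1 ha2 ha3 ha4 ha5 using fun θ : IrrCharacter K => toolR_one hM hpr D hK hR hKp θ.2 (hst θ)
  obtain ⟨g, hg, hg1⟩ := exists_ne_one (P := (R : Subgroup G)) hR
  have hgo : orderOf g = r := Cfsg.Agent.Blocks.CyclicOrtho.orderOf_eq R hR hg hg1
  -- the value formula
  have hex : ∀ χ : IrrCharacter G, ¬ r ∣ charDegree (χ : G → ℂ) → ∃ (θ : IrrCharacter K),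
      (a θ χ = 1 ∨ a θ χ = -1) ∧ (∀ x ∈ R, x ≠ 1 → ∀ y : K, (χ : G → ℂ) (x * y) = a θ χ * (θ : K → ℂ) y) ∧
      (r : ℤ) ∣ charDegree (χ : G → ℂ) - a θ χ * charDegree (θ : K → ℂ) := by
    intro χ h0
    rcases Cfsg.Agent.H676.Deg.val hK hR he hI χ with ⟨-, k, hk⟩ | ⟨θ, δ, h1, h2, k, hk⟩
    · exfalso
      apply h0
      rw [Cfsg.Agent.Blocks.Basic.irr_one_eq_charDegree χ.2] at hk
      exact ⟨k, by exact_mod_cast hk⟩
    · have h3 : part (θ : K → ℂ) (χ : G → ℂ) g = (δ : ℂ) := by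
        have := Fintype.ofFinite K
        have e : part (θ : K → ℂ) (χ : G → ℂ) g = (δ : ℂ) * classInner (θ : K → ℂ) (θ : K → ℂ) := by
          rw [part_eq, classInner_def, Finset.mul_sum, Finset.mul_sum, Finset.mul_sum]
          refine Finset.sum_congr rfl fun y _ => ?_
          rw [h2 ⟨g, hg⟩ (fun h => hg1 (congrArg Subtype.val h)) y]
          ring
        rw [e, classInner_irr_self θ.2, mul_one]
      have h4 := ha4 θ χ g hg hg1
      have h5 : a θ χ = δ := by
        have h6 : (a θ χ : ℂ) = (δ : ℂ) := h4.symm.trans h3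
        exact_mod_cast h6
      refine ⟨θ, by rw [h5]; exact h1, fun x hx hx1 y => ?_, ?_⟩
      · rw [h5]
        exact h2 ⟨x, hx⟩ (fun h => hx1 (congrArg Subtype.val h)) y
      · rw [h5]
        rw [Cfsg.Agent.Blocks.Basic.irr_one_eq_charDegree χ.2, Cfsg.Agent.Blocks.Basic.irr_one_eq_charDegree θ.2] at hk
        have h6 : (charDegree (χ : G → ℂ) : ℤ) = δ * charDegree (θ : K → ℂ) + r * k := by exact_mod_cast hk
        exact ⟨k, by rw [h6]; ring⟩
  refine ⟨a, ⟨ha1, fun χ θ θ' hne => ?_, fun χ h θ => ?_, fun χ h0 => ?_⟩, ha5⟩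
  · by_contra hno
    push Not at hno
    refine Set.disjoint_left.1 (disjoint_Over hK hR θ.2 θ'.2 fun n hn h => hne ?_) ((ha2 θ χ).2 hno.1)
      ((ha2 θ' χ).2 hno.2)
    rw [tw_eq_of_inn hK hI θ.2 n hn] at h
    exact Subtype.ext h
  · by_contra h0
    obtain ⟨k, hk⟩ := degree_of_const hK hR θ.2 ((ha2 θ χ).2 h0) (c := a θ χ)
      fun x hx => ha4 θ χ x x.2 fun h => hx (Subtype.ext h)
    rw [orb_of_stable θ.2 (tw_eq_of_inn hK hI θ.2), Finset.sum_singleton] at hk
    have hk' : (χ : G → ℂ) 1 = (a θ χ : ℂ) * (θ : K → ℂ) 1 + r * k := hk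
    rw [Cfsg.Agent.Blocks.Basic.irr_one_eq_charDegree χ.2, Cfsg.Agent.Blocks.Basic.irr_one_eq_charDegree θ.2] at hk'
    have h6 : (charDegree (χ : G → ℂ) : ℤ) = a θ χ * charDegree (θ : K → ℂ) + r * k := by exact_mod_cast hk'
    have h7 : (r : ℤ) ∣ charDegree (χ : G → ℂ) := by exact_mod_cast h
    have h8 : (r : ℤ) ∣ a θ χ * charDegree (θ : K → ℂ) := by
      have h9 : (r : ℤ) ∣ a θ χ * charDegree (θ : K → ℂ) + r * k := by rw [← h6]; exact h7
      exact (dvd_add_left (dvd_mul_right _ _)).1 h9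
    have h9 : (r : ℤ) ∣ charDegree (θ : K → ℂ) := by
      rcases ha1 θ χ with h | h | h
      · exact absurd h h0
      · rwa [h, one_mul] at h8
      · rw [h, neg_one_mul, dvd_neg] at h8
        exact h8
    have h10 : r ∣ Nat.card K := (by exact_mod_cast h9 : r ∣ charDegree (θ : K → ℂ)).trans
      (Cfsg.Agent.Blocks.Knorr.charDegree_dvd θ.2)
    exact hK.not_dvd_card h10
  · obtain ⟨θ, h1, h2, h3⟩ := hex χ h0
    refine ⟨θ, h1, h2, h3, fun y v w hv hw => ?_⟩
    obtain ⟨M', hM'⟩ := Cfsg.Agent.Blocks.ExistsModular.exists_isPModular hr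
    have hc : Commute g (y : G) := hK.comm hg y.2
    have hyr : ¬ r ∣ orderOf (y : G) := ((hK y).1 y.2).2
    have h10 := Cfsg.Agent.CharactersDeep.ModCongr.memLocalIdeal_character_sub hM' χ.2 (g * y) g
      (Cfsg.Agent.Blocks.PPart.isPPart_mul hc ⟨1, by rw [hgo, pow_one]⟩ hyr)
    rw [inv_mul_cancel_left, h2 g hg hg1 y, hv, hw] at h10
    have h11 : (r : ℤ) ∣ a θ χ * w - v :=
      Cfsg.Agent.H642.PQ.int_dvd_of_mem hM' (by push_cast; exact h10)
    have h12 : v - a θ χ * w = -(a θ χ * w - v) := by ring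
    rw [h12, dvd_neg]
    exact h11

end Cfsg.Agent.H495.LB
end

-- part: H529/LB/MSqC
section
set_option linter.all false

/-!
# Kernel checks: the masses of `t₀` at one representative for each colour (helper529)
-/

set_option autoImplicit false
set_option maxRecDepth 100000
set_option Elab.async false

namespace Cfsg.Agent.H529.LB.MSqC

open Cfsg.Agent.H816.MTab Cfsg.Agent.H816.MRun Cfsg.Agent.MonsterX.InstData

/-- `2A` -/
theorem q1 : typC 0 1 [(mt0, 0)] = true := by decide +kernel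

/-- `2B` -/
theorem q2 : typC 0 0 [(mt0, 0)] = true := by decide +kernel

/-- `3A` -/
theorem q3 : typC 5 3 [(mt0, 248832)] = true := by decide +kernel

/-- `4A` -/
theorem q5 : typC 4 0 [(mt0, 262144)] = true := by decide +kernel

/-- `5A` -/
theorem q7 : typC 7 2 [(mt0, 256000)] = true := by decide +kernel

/-- `6A` -/
theorem q8 : typC 5 4 [(mt0, 248832)] = true := by decide +kernel

end Cfsg.Agent.H529.LB.MSqC
end
end
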